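import Mathlib
import Cfsg.Prelude.Def_Local
import Cfsg.Agent.Lib.Cores
import Cfsg.Agent.Lib.ThompsonPQ
import Cfsg.Agent.Lib.GenFitting
import Cfsg.Agent.TwoFusion.PResidual
import Cfsg.Agent.TwoFusion.FStarControl
import Cfsg.Agent.SignalizersComponents.Components
import Cfsg.Agent.PLocal.SubnormalCore
set_option linter.all false

-- part: H429/TW
section
/-!
# The Thompson–Wielandt theorem for pairs of maximal subgroups (Knapp's version)

`A`, `B` two different conjugate subgroups of a finite group `G` such that the normalizer of every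
nontrivial subgroup of `A` normal in `A` is in `A`, and similarly for `B`. If
`1 ≠ T ≤ C₂ ≤ A`, `T` normal in `A`, `C₂` normal in `B`, and
`1 ≠ T' ≤ C₁ ≤ B`, `T'` normal in `B`, `C₁` normal in `A`, then `F*(A)` is a `p`-group.
-/

set_option autoImplicit false
set_option linter.unusedSectionVars false

namespace Cfsg.Agent.H429.TW

open Subgroup Cfsg
open Cfsg.Agent.SignalizersComponents.Components
open Cfsg.Agent.TwoFusion.FStarControl

/-! ### One group -/

section one

variable {H : Type*} [Group H] [Finite H]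

/-- `O_{q'}(F*(H))`. -/
def Y (q : ℕ) (H : Type*) [Group H] : Subgroup H :=
  layer H ⊔ (fittingSubgroup H ⊓ pPrimeCore q H)

theorem Y_def (q : ℕ) : Y q H = layer H ⊔ (fittingSubgroup H ⊓ pPrimeCore q H) := rfl

theorem Y_normal (q : ℕ) : (Y q H).Normal := by
  have := layer_normal (G := H)
  have := Cfsg.Agent.Lib.Cores.pPrimeCore_normal (G := H) q
  have := Cfsg.Agent.Lib.Cores.fittingSubgroup_normal (G := H)
  rw [Y_def]
  infer_instance

theorem Y_le_genFitting (q : ℕ) : Y q H ≤ generalizedFittingSubgroup H :=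
  sup_le layer_le_genFitting (inf_le_left.trans fitting_le_genFitting)

theorem genFitting_le (q : ℕ) [Fact q.Prime] :
    generalizedFittingSubgroup H ≤ pCore q H ⊔ Y q H := by
  refine sup_le (le_sup_left.trans le_sup_right) ((fitting_le_sup q).trans ?_)
  exact sup_le le_sup_left (le_sup_right.trans le_sup_right)

theorem pCore_le_centralizer_Y (q : ℕ) [Fact q.Prime] :
    pCore q H ≤ centralizer (Y q H : Set H) := by
  rw [le_centralizer_iff]
  refine sup_le ?_ ?_
  · have h1 := layer_le_centralizer_fitting (G := H)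
    exact h1.trans (centralizer_le (Cfsg.Agent.Lib.Cores.pCore_le_fittingSubgroup q))
  · refine inf_le_right.trans ?_
    rw [le_centralizer_iff]
    exact pCore_le_centralizer_pPrimeCore q

/-- The layer is generated by its elements of order prime to `p`. -/
theorem layer_le_of_coprime (p : ℕ) [Fact p.Prime]
    {K : Subgroup H} (h : ∀ y ∈ layer H, (orderOf y).Coprime p → y ∈ K) : layer H ≤ K := by
  have hn := Cfsg.Agent.TwoFusion.PResidual.pResidual_normal (G := layer H) p
  have h1 : pResidual p (layer H) = ⊤ := by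
    by_contra hne
    have hp := Cfsg.Agent.TwoFusion.PResidual.isPGroup_quotient_pResidual (G := layer H) p
    have : Group.IsNilpotent (layer H ⧸ pResidual p (layer H)) := hp.isNilpotent
    have hper : Group.IsPerfect (layer H ⧸ pResidual p (layer H)) := by
      have := layer_isPerfect H
      exact Group.IsPerfect.ofSurjective (f := QuotientGroup.mk' _) (QuotientGroup.mk'_surjective _)
    have hnt : Nontrivial (layer H ⧸ pResidual p (layer H)) := by
      rw [QuotientGroup.nontrivial_iff]
      exact hne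
    exact Group.IsPerfect.not_isSolvable (layer H ⧸ pResidual p (layer H)) inferInstance
  have h2 : pResidual p (layer H) ≤ K.subgroupOf (layer H) := by
    refine Cfsg.Agent.TwoFusion.PResidual.pResidual_le p (fun g hg => ?_)
    rw [mem_subgroupOf]
    refine h g g.2 ?_
    rwa [Subgroup.orderOf_coe]
  rw [h1, top_le_iff, subgroupOf_eq_top] at h2
  exact h2

/-- `O_{q'}(F*(H))` is generated by its `q'`-elements. -/
theorem Y_le_of_coprime (q : ℕ) [Fact q.Prime] {K : Subgroup H}
    (h : ∀ y ∈ Y q H, (orderOf y).Coprime q → y ∈ K) : Y q H ≤ K := by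
  refine sup_le (layer_le_of_coprime q fun y hy hc => h y (mem_sup_left hy) hc) ?_
  intro y hy
  refine h y (mem_sup_right hy) ?_
  have h1 := Cfsg.Agent.Lib.Cores.pPrimeCore_coprime (G := H) q
  have h2 : orderOf y ∣ Nat.card (pPrimeCore q H) := by
    have := orderOf_dvd_natCard (⟨y, hy.2⟩ : pPrimeCore q H)
    rwa [Subgroup.orderOf_mk] at this
  exact Nat.Coprime.coprime_dvd_left h2 h1

/-- If a product of commuting elements `z u` has order a power of `q`, `u` too, and `z` has order prime to `q`, then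
`z = 1`. -/
theorem eq_one_of_mul {q : ℕ} {z u : H} (hc : Commute z u) {k l : ℕ}
    (h1 : (z * u) ^ q ^ k = 1) (h2 : u ^ q ^ l = 1) (hz : (orderOf z).Coprime q) : z = 1 := by
  have h3 : (z * u) ^ q ^ (k + l) = 1 := by rw [pow_add, pow_mul, h1, one_pow]
  have h4 : u ^ q ^ (k + l) = 1 := by rw [pow_add, mul_comm, pow_mul, h2, one_pow]
  rw [hc.mul_pow, h4, mul_one] at h3
  have h5 : orderOf z ∣ q ^ (k + l) := orderOf_dvd_of_pow_eq_one h3
  have h6 : orderOf z = 1 :=
    Nat.eq_one_of_dvd_coprimes (Nat.Coprime.pow_right (k + l) hz) dvd_rfl h5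
  exact orderOf_eq_one_iff.mp h6

/-- If `x` commutes with `z`, `x r x⁻¹ = z r`, `x` has order prime to `q` and `z` has `q`-power order then `z = 1`. -/
theorem eq_one_of_conj {q : ℕ} {x z r : H} (hc : Commute x z) (h : x * r * x⁻¹ = z * r)
    {k : ℕ} (hz : z ^ q ^ k = 1) (hx : (orderOf x).Coprime q) : z = 1 := by
  have h1 : ∀ n : ℕ, x ^ n * r * (x ^ n)⁻¹ = z ^ n * r := by
    intro n
    induction n with
    | zero => simp
    | succ n ih =>
      have e1 : x ^ (n + 1) * r * (x ^ (n + 1))⁻¹ = x * (x ^ n * r * (x ^ n)⁻¹) * x⁻¹ := by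
        rw [pow_succ']; group
      rw [e1, ih]
      have e2 : x * z ^ n = z ^ n * x := (hc.pow_right n).eq
      calc x * (z ^ n * r) * x⁻¹ = (x * z ^ n) * r * x⁻¹ := by group
        _ = z ^ n * (x * r * x⁻¹) := by rw [e2]; group
        _ = z ^ (n + 1) * r := by rw [h, pow_succ]; group
  have h2 := h1 (orderOf x)
  rw [pow_orderOf_eq_one] at h2
  have h3 : z ^ orderOf x = 1 := by
    have : r = z ^ orderOf x * r := by simpa using h2
    exact (mul_eq_right.mp this.symm)
  have h4 : orderOf z ∣ orderOf x := orderOf_dvd_of_pow_eq_one h3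
  have h5 : orderOf z ∣ q ^ k := orderOf_dvd_of_pow_eq_one hz
  have h6 : orderOf z = 1 := Nat.eq_one_of_dvd_coprimes (Nat.Coprime.pow_right k hx) h4 h5
  exact orderOf_eq_one_iff.mp h6

/-- **Key lemma in one group.** A `q`-subgroup `R₁` centralizing `O_{q'}(F*(H))` commutes with every `q'`-element
centralizing `O_q(H)`. -/
theorem commute_of_centralizes (q : ℕ) [hq : Fact q.Prime] {R₁ : Subgroup H} (hR : IsPGroup q R₁)
    (hY : R₁ ≤ centralizer (Y q H : Set H)) {x : H} (hx : x ∈ centralizer (pCore q H : Set H))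
    (hxq : (orderOf x).Coprime q) {r : H} (hr : r ∈ R₁) : x * r = r * x := by
  have hYn := Y_normal (H := H) q
  have hPn := Cfsg.Agent.Lib.Cores.pCore_normal (G := H) q
  have hCY : (centralizer (Y q H : Set H)).Normal := inferInstance
  have hCP : (centralizer (pCore q H : Set H)).Normal := inferInstance
  set z : H := x * r * x⁻¹ * r⁻¹ with hz
  have hz1 : z ∈ centralizer (pCore q H : Set H) := by
    have : z = x * (r * x⁻¹ * r⁻¹) := by rw [hz]; group
    rw [this]
    exact mul_mem hx (hCP.conj_mem _ (inv_mem hx) r)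
  have hz2 : z ∈ centralizer (Y q H : Set H) := by
    rw [hz]
    exact mul_mem (hCY.conj_mem _ (hY hr) x) (inv_mem (hY hr))
  have hz3 : z ∈ centralizer (generalizedFittingSubgroup H : Set H) := by
    have h1 : pCore q H ⊔ Y q H ≤ centralizer ({z} : Set H) := by
      refine sup_le ?_ ?_
      · intro y hy
        rw [mem_centralizer_singleton_iff]
        exact (mem_centralizer_iff.mp hz1 y hy)
      · intro y hy
        rw [mem_centralizer_singleton_iff]
        exact (mem_centralizer_iff.mp hz2 y hy)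
    rw [mem_centralizer_iff]
    intro y hy
    exact mem_centralizer_singleton_iff.mp (h1 (genFitting_le q hy))
  have hz4 : z ∈ fittingSubgroup H := centralizer_genFitting_le_fitting hz3
  obtain ⟨a, b, hab, ha, hb⟩ := exists_fitting_decomp q hz4
  have hbY : z ^ b ∈ Y q H := mem_sup_right hb
  have hbr : Commute (z ^ b) r := mem_centralizer_iff.mp (hY hr) _ hbY
  have hba : Commute (z ^ b) (z ^ a) := ((Commute.refl z).zpow_zpow b a)
  have hbc : (orderOf (z ^ b)).Coprime q := by
    have h1 := Cfsg.Agent.Lib.Cores.pPrimeCore_coprime (G := H) q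
    have h2 : orderOf (z ^ b) ∣ Nat.card (pPrimeCore q H) := by
      have := orderOf_dvd_natCard (⟨z ^ b, hb.2⟩ : pPrimeCore q H)
      rwa [Subgroup.orderOf_mk] at this
    exact Nat.Coprime.coprime_dvd_left h2 h1
  have hsup : IsPGroup q (pCore q H ⊔ R₁ : Subgroup H) :=
    (Cfsg.Agent.Lib.Cores.pCore_isPGroup q).to_sup_of_normal_left hR
  have hu : z ^ a * r ∈ pCore q H ⊔ R₁ := mul_mem (mem_sup_left ha) (mem_sup_right hr)
  obtain ⟨l, hl⟩ := hsup ⟨_, hu⟩
  have hl' : (z ^ a * r) ^ q ^ l = 1 := by simpa using congrArg Subtype.val hl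
  obtain ⟨k, hk⟩ := hR ⟨r, hr⟩
  have hk' : r ^ q ^ k = 1 := by simpa using congrArg Subtype.val hk
  have hxr : x * r * x⁻¹ = z ^ b * (z ^ a * r) := by
    rw [← mul_assoc, hba.eq, ← hab, hz]; group
  have h1 : z ^ b = 1 := by
    refine eq_one_of_mul (q := q) (u := z ^ a * r) ?_ (k := k) (l := l) ?_ hl' hbc
    · exact (hba.mul_right hbr)
    · rw [← hxr, conj_pow, hk']; group
  have h2 : z = z ^ a := by
    have := hab
    rwa [h1, mul_one] at this
  have hzP : z ∈ pCore q H := by rw [h2]; exact ha
  obtain ⟨m, hm⟩ := (Cfsg.Agent.Lib.Cores.pCore_isPGroup (G := H) q) ⟨z, hzP⟩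
  have hm' : z ^ q ^ m = 1 := by simpa using congrArg Subtype.val hm
  have hxz : Commute x z := (mem_centralizer_iff.mp hx z hzP).symm
  have h3 : z = 1 := eq_one_of_conj (q := q) hxz (r := r) (by rw [hz]; group) hm' hxq
  have h4 : x * r * x⁻¹ * r⁻¹ = 1 := by rw [← hz]; exact h3
  have h5 : x * r * x⁻¹ = r := by rwa [mul_inv_eq_one] at h4
  rwa [mul_inv_eq_iff_eq_mul] at h5

end one

end Cfsg.Agent.H429.TW
end

-- part: H429/TWPair
section
/-!
# The Thompson–Wielandt theorem for pairs of maximal subgroups: the pair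
-/

set_option autoImplicit false
set_option linter.unusedSectionVars false

namespace Cfsg.Agent.H429.TW

open Subgroup Cfsg
open Cfsg.Agent.SignalizersComponents.Components
open Cfsg.Agent.TwoFusion.FStarControl

variable {G : Type*} [Group G]

/-- `O_{q'}(F*(X))` in the ambient group. -/
def YY (q : ℕ) (X : Subgroup G) : Subgroup G := (Y q X).map X.subtype

/-- `O_q(X)` in the ambient group. -/
def OO (q : ℕ) (X : Subgroup G) : Subgroup G := (pCore q X).map X.subtype

theorem YY_def (q : ℕ) (X : Subgroup G) : YY q X = (Y q X).map X.subtype := rfl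
theorem OO_def (q : ℕ) (X : Subgroup G) : OO q X = (pCore q X).map X.subtype := rfl

theorem YY_le (q : ℕ) (X : Subgroup G) : YY q X ≤ X := map_subtype_le _
theorem OO_le (q : ℕ) (X : Subgroup G) : OO q X ≤ X := map_subtype_le _

theorem le_normalizer_map_subtype {X : Subgroup G} {N : Subgroup X} (hN : N.Normal) :
    X ≤ normalizer ((N.map X.subtype : Subgroup G) : Set G) := by
  have h := le_normalizer_map (H := N) X.subtype
  rw [normalizer_eq_top_iff.mpr hN, ← MonoidHom.range_eq_map, range_subtype] at h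
  exact h

theorem OO_isPGroup (q : ℕ) (X : Subgroup G) : IsPGroup q (OO q X) :=
  (Cfsg.Agent.Lib.Cores.pCore_isPGroup q).map X.subtype

theorem le_normalizer_OO (q : ℕ) (X : Subgroup G) : X ≤ normalizer (OO q X : Set G) :=
  le_normalizer_map_subtype (Cfsg.Agent.Lib.Cores.pCore_normal q)

variable [Finite G]

theorem le_normalizer_YY (q : ℕ) (X : Subgroup G) : X ≤ normalizer (YY q X : Set G) :=
  le_normalizer_map_subtype (Y_normal q)

theorem OO_le_centralizer_YY (q : ℕ) [Fact q.Prime] (X : Subgroup G) :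
    OO q X ≤ centralizer (YY q X : Set G) := by
  rintro _ ⟨x, hx, rfl⟩
  rw [mem_centralizer_iff]
  rintro _ ⟨y, hy, rfl⟩
  have := mem_centralizer_iff.mp (pCore_le_centralizer_Y q hx) y hy
  exact congrArg Subtype.val this

theorem YY_le_of_coprime (q : ℕ) [Fact q.Prime] {X K : Subgroup G}
    (h : ∀ y ∈ YY q X, (orderOf y).Coprime q → y ∈ K) : YY q X ≤ K := by
  have h1 : Y q X ≤ K.subgroupOf X := by
    refine Y_le_of_coprime q fun y hy hc => ?_
    rw [mem_subgroupOf]
    refine h y ⟨y, hy, rfl⟩ ?_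
    rwa [Subgroup.orderOf_coe]
  rintro _ ⟨y, hy, rfl⟩
  exact h1 hy

/-- A `q`-subgroup normal in `X` is in `O_q(X)`. -/
theorem le_OO (q : ℕ) {X T : Subgroup G} (hT : IsPGroup q T) (hTX : T ≤ X)
    (hn : X ≤ normalizer (T : Set G)) : T ≤ OO q X := by
  have hN : (T.subgroupOf X).Normal := by
    rw [normal_subgroupOf_iff_le_normalizer hTX]; exact hn
  have h1 : T.subgroupOf X ≤ pCore q X :=
    Cfsg.Agent.Lib.Cores.le_pCore hN (hT.comap_of_injective X.subtype X.subtype_injective)
  intro t ht
  exact ⟨⟨t, hTX ht⟩, h1 (mem_subgroupOf.mpr ht), rfl⟩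

/-- `q'`-elements of `O_{q'}(F*(B)) ≤ A` commute with `O_q(A) ∩ B`. -/
theorem commute_OO (q : ℕ) [Fact q.Prime] {A B : Subgroup G} (hYA : YY q B ≤ A) {r y : G}
    (hr : r ∈ OO q A) (hrB : r ∈ B) (hy : y ∈ YY q B) (hyq : (orderOf y).Coprime q) :
    r * y = y * r := by
  set V : Subgroup G := OO q A ⊓ YY q B with hV
  have hVB : V ≤ B := inf_le_right.trans (YY_le q B)
  set v : G := r * y * r⁻¹ * y⁻¹ with hv
  have hrY : r * y * r⁻¹ ∈ YY q B := (mem_normalizer_iff.mp (le_normalizer_YY q B hrB) y).mp hy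
  have hv1 : v ∈ YY q B := mul_mem hrY (inv_mem hy)
  have hv2 : v ∈ OO q A := by
    have h1 : y * r⁻¹ * y⁻¹ ∈ OO q A :=
      (mem_normalizer_iff.mp (le_normalizer_OO q A (hYA hy)) r⁻¹).mp (inv_mem hr)
    have : v = r * (y * r⁻¹ * y⁻¹) := by rw [hv]; group
    rw [this]
    exact mul_mem hr h1
  have hVn : YY q B ≤ normalizer (V : Set G) := by
    intro x hx
    have h1 := mem_normalizer_iff.mp (le_normalizer_OO q A (hYA hx))
    rw [mem_normalizer_iff]
    intro w
    constructor
    · rintro ⟨ha, hb⟩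
      exact ⟨(h1 w).mp ha, (YY q B).mul_mem ((YY q B).mul_mem hx hb) ((YY q B).inv_mem hx)⟩
    · rintro ⟨ha, hb⟩
      refine ⟨(h1 w).mpr ha, ?_⟩
      have e : w = x⁻¹ * (x * w * x⁻¹) * x := by group
      have h3 : x⁻¹ * (x * w * x⁻¹) * x ∈ YY q B :=
        (YY q B).mul_mem ((YY q B).mul_mem ((YY q B).inv_mem hx) hb) hx
      rwa [← e] at h3
  have hVO : V.subgroupOf B ≤ pCore q B := by
    refine Cfsg.Agent.Lib.GenFitting.le_pCore_of_normal_in_normal (X := Y q B) (Y_normal q) ?_ ?_ ?_
    · intro w hw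
      obtain ⟨w', hw', hww⟩ := (mem_subgroupOf.mp hw).2
      have : w' = w := Subtype.ext hww
      rwa [this] at hw'
    · intro x hx
      rw [mem_normalizer_iff]
      intro w
      have := mem_normalizer_iff.mp (hVn ⟨x, hx, rfl⟩) w
      exact this
    · refine IsPGroup.comap_of_injective ?_ B.subtype B.subtype_injective
      exact (OO_isPGroup q A).to_le inf_le_left
  have hvO : v ∈ OO q B := ⟨⟨v, YY_le q B hv1⟩, hVO (mem_subgroupOf.mpr ⟨hv2, hv1⟩), rfl⟩
  have hvy : Commute v y := (mem_centralizer_iff.mp (OO_le_centralizer_YY q B hvO) y hy).symm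
  have h1 : r * y * r⁻¹ = v * y := by rw [hv]; group
  have h2 : v ^ orderOf y = 1 := by
    have h3 : (v * y) ^ orderOf y = 1 := by
      rw [← h1, conj_pow, pow_orderOf_eq_one]; group
    rwa [hvy.mul_pow, pow_orderOf_eq_one, mul_one] at h3
  obtain ⟨k, hk⟩ := OO_isPGroup q B ⟨v, hvO⟩
  have hk' : v ^ q ^ k = 1 := by simpa using congrArg Subtype.val hk
  have h4 : orderOf v = 1 := Nat.eq_one_of_dvd_coprimes (Nat.Coprime.pow_right k hyq)
    (orderOf_dvd_of_pow_eq_one h2) (orderOf_dvd_of_pow_eq_one hk')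
  have h5 : v = 1 := orderOf_eq_one_iff.mp h4
  rw [h5, one_mul, mul_inv_eq_iff_eq_mul] at h1
  exact h1

/-- The `A × B` step. -/
theorem OO_le_of_normal (q : ℕ) [Fact q.Prime] {A B T' : Subgroup G} (hYA : YY q B ≤ A)
    (hT'p : IsPGroup q T') (hT'A : T' ≤ A) (hT'B : T' ≤ B) (hn : B ≤ normalizer (T' : Set G))
    (hc : centralizer (T' : Set G) ≤ B) : YY q B ≤ centralizer (OO q A : Set G) := by
  refine YY_le_of_coprime q fun y hy hyq => ?_
  have h1 : zpowers y ≤ centralizer (OO q A : Set G) := by
    refine Cfsg.Agent.Lib.ThompsonPQ.thompson_p_times_q q T' (zpowers y) (OO q A) hT'p ?_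
      (OO_isPGroup q A) ?_ ?_ ?_ ?_
    · rwa [Nat.card_zpowers]
    · have h2 := (le_OO q hT'p hT'B hn).trans (OO_le_centralizer_YY q B)
      refine h2.trans (centralizer_le ?_)
      exact_mod_cast (zpowers_le.mpr hy)
    · exact hT'A.trans (le_normalizer_OO q A)
    · exact (zpowers_le.mpr (hYA hy)).trans (le_normalizer_OO q A)
    · rintro r ⟨hr1, hr2⟩
      have h3 := commute_OO q hYA hr1 (hc hr2) hy hyq
      rw [mem_centralizer_iff]
      rintro _ ⟨n, rfl⟩
      exact ((show Commute r y from h3).zpow_right n).symm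
  exact h1 (mem_zpowers y)

/-- The subgroup generated by the `q'`-elements of the centralizer. -/
def LL (q : ℕ) (X : Subgroup G) : Subgroup G :=
  closure {x | x ∈ centralizer (X : Set G) ∧ (orderOf x).Coprime q}

theorem LL_le (q : ℕ) (X : Subgroup G) : LL q X ≤ centralizer (X : Set G) := by
  rw [LL, closure_le]
  exact fun x hx => hx.1

theorem mem_LL {q : ℕ} {X : Subgroup G} {x : G} (h1 : x ∈ centralizer (X : Set G))
    (h2 : (orderOf x).Coprime q) : x ∈ LL q X := subset_closure ⟨h1, h2⟩

theorem orderOf_conj' (g x : G) : orderOf (g * x * g⁻¹) = orderOf x := by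
  have := orderOf_injective (MulAut.conj g).toMonoidHom (MulAut.conj g).injective x
  simpa using this

theorem map_conj_LL_le (q : ℕ) (X : Subgroup G) (g : G) :
    (LL q X).map (MulAut.conj g).toMonoidHom ≤ LL q (X.map (MulAut.conj g).toMonoidHom) := by
  rw [map_le_iff_le_comap, LL, closure_le]
  rintro x ⟨hx1, hx2⟩
  change g * x * g⁻¹ ∈ LL q (X.map (MulAut.conj g).toMonoidHom)
  refine mem_LL ?_ ?_
  · rw [mem_centralizer_iff]
    rintro _ ⟨y, hy, rfl⟩
    have := mem_centralizer_iff.mp hx1 y hy
    change g * y * g⁻¹ * (g * x * g⁻¹) = g * x * g⁻¹ * (g * y * g⁻¹)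
    calc g * y * g⁻¹ * (g * x * g⁻¹) = g * (y * x) * g⁻¹ := by group
      _ = g * (x * y) * g⁻¹ := by rw [this]
      _ = _ := by group
  · rwa [orderOf_conj']

theorem card_LL_le (q : ℕ) (X : Subgroup G) (g : G) :
    Nat.card (LL q X) ≤ Nat.card (LL q (X.map (MulAut.conj g).toMonoidHom)) := by
  rw [← card_map_of_injective (K := LL q X) (f := (MulAut.conj g).toMonoidHom)
    (MulAut.conj g).injective]
  exact Nat.card_mono (Set.toFinite _) (map_conj_LL_le q X g)

theorem normalizer_le_normalizer_LL (q : ℕ) (X : Subgroup G) :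
    normalizer (X : Set G) ≤ normalizer (LL q X : Set G) := by
  have key : ∀ g ∈ normalizer (X : Set G), ∀ x ∈ LL q X, g * x * g⁻¹ ∈ LL q X := by
    intro g hg x hx
    have h1 := map_conj_LL_le q X g (mem_map_of_mem _ hx)
    have h2 : X.map (MulAut.conj g).toMonoidHom = X := by
      ext y
      rw [mem_map_equiv, MulAut.conj_symm_apply]
      have := mem_normalizer_iff.mp (inv_mem hg) y
      rw [inv_inv] at this
      exact this.symm
    rwa [h2] at h1
  intro g hg
  rw [mem_normalizer_iff]
  intro x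
  refine ⟨key g hg x, fun h => ?_⟩
  have := key g⁻¹ (inv_mem hg) _ h
  have e : g⁻¹ * (g * x * g⁻¹) * g⁻¹⁻¹ = x := by group
  rwa [e] at this

/-- `O_q` of a conjugate. -/
theorem map_conj_OO (q : ℕ) (X : Subgroup G) (g : G) :
    (OO q X).map (MulAut.conj g).toMonoidHom = OO q (X.map (MulAut.conj g).toMonoidHom) := by
  have h := Cfsg.Agent.Lib.Cores.map_equiv_pCore
    (X.equivMapOfInjective (MulAut.conj g).toMonoidHom (MulAut.conj g).injective) q
  rw [OO_def, OO_def, ← h, map_map, map_map]
  congr 1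

theorem map_conj_genFitting {X Z : Subgroup G} {g : G}
    (h : X.map (MulAut.conj g).toMonoidHom = Z) (q : ℕ) :
    generalizedFittingSubgroup X = pCore q X ↔ generalizedFittingSubgroup Z = pCore q Z := by
  subst h
  let e := X.equivMapOfInjective (MulAut.conj g).toMonoidHom (MulAut.conj g).injective
  have h1 := Cfsg.Agent.Lib.Cores.map_equiv_pCore e q
  have h2 := Cfsg.Agent.Lib.GenFitting.map_genFitting e
  constructor
  · intro h3
    rw [← h1, ← h2, h3]
  · intro h3
    apply map_injective (f := e.toMonoidHom) e.injective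
    rw [h1, h2, h3]

/-- If `F*(X) ≠ O_q(X)` then `O_{q'}(F*(X)) ≠ 1`. -/
theorem YY_ne_bot (q : ℕ) [Fact q.Prime] {X : Subgroup G}
    (h : generalizedFittingSubgroup X ≠ pCore q X) : YY q X ≠ ⊥ := by
  intro h1
  apply h
  have h2 : Y q X = ⊥ := (map_eq_bot_iff_of_injective _ X.subtype_injective).mp h1
  apply le_antisymm
  · have := genFitting_le (H := X) q
    rwa [h2, sup_bot_eq] at this
  · exact (Cfsg.Agent.Lib.Cores.pCore_le_fittingSubgroup q).trans fitting_le_genFitting

/-- The situation: two different conjugate subgroups `A`, `B` such that `A` contains the normalizer of each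
nontrivial normal subgroup of `A`, and the same for `B`; the generalized Fitting subgroups are not of prime power
order. -/
structure Hyp (A B : Subgroup G) : Prop where
  hA : ∀ X : Subgroup G, X ≤ A → X ≠ ⊥ → A ≤ normalizer (X : Set G) → normalizer (X : Set G) ≤ A
  hB : ∀ X : Subgroup G, X ≤ B → X ≠ ⊥ → B ≤ normalizer (X : Set G) → normalizer (X : Set G) ≤ B
  conj : ∃ g : G, A.map (MulAut.conj g).toMonoidHom = B
  ne : A ≠ B
  nF : ∀ q : ℕ, q.Prime → generalizedFittingSubgroup A ≠ pCore q A

theorem Hyp.conj_symm {A B : Subgroup G} (h : ∃ g : G, A.map (MulAut.conj g).toMonoidHom = B) :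
    ∃ g : G, B.map (MulAut.conj g).toMonoidHom = A := by
  obtain ⟨g, rfl⟩ := h
  refine ⟨g⁻¹, ?_⟩
  rw [map_map]
  have : (MulAut.conj g⁻¹).toMonoidHom.comp (MulAut.conj g).toMonoidHom = MonoidHom.id G := by
    ext x
    simp [mul_assoc]
  rw [this, map_id]

theorem Hyp.nFB {A B : Subgroup G} (h : Hyp A B) (q : ℕ) (hq : q.Prime) :
    generalizedFittingSubgroup B ≠ pCore q B := by
  obtain ⟨g, hg⟩ := h.conj
  intro h1
  exact h.nF q hq ((map_conj_genFitting hg q).mpr h1)

theorem Hyp.symm {A B : Subgroup G} (h : Hyp A B) : Hyp B A :=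
  ⟨h.hB, h.hA, Hyp.conj_symm h.conj, h.ne.symm, h.nFB⟩

theorem Hyp.card_eq {A B : Subgroup G} (h : Hyp A B) : Nat.card A = Nat.card B := by
  obtain ⟨g, hg⟩ := h.conj
  rw [← hg, card_map_of_injective (MulAut.conj g).injective]

theorem Hyp.not_le {A B : Subgroup G} (h : Hyp A B) : ¬ A ≤ B := fun h1 =>
  h.ne (eq_of_le_of_card_ge h1 h.card_eq.ge)

/-- A nontrivial subgroup is not normal in both. -/
theorem Hyp.false_of_normal {A B : Subgroup G} (h : Hyp A B) {X : Subgroup G} (hX : X ≤ B)
    (h1 : X ≠ ⊥) (hA : A ≤ normalizer (X : Set G)) (hB : B ≤ normalizer (X : Set G)) : False :=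
  h.not_le (hA.trans (h.hB X hX h1 hB))

/-- **Lemma A**. -/
theorem Hyp.false_of_centralizes {A B : Subgroup G} (h : Hyp A B) (q : ℕ) [hq : Fact q.Prime]
    (h1 : OO q A ≠ ⊥) (hAB : OO q A ≤ B) (hY : OO q A ≤ centralizer (YY q B : Set G)) : False := by
  obtain ⟨g, hg⟩ := h.conj
  have hOB : OO q B = (OO q A).map (MulAut.conj g).toMonoidHom := by rw [map_conj_OO, hg]
  have hOB1 : OO q B ≠ ⊥ := by
    rw [hOB]
    intro h2
    exact h1 ((map_eq_bot_iff_of_injective _ (MulAut.conj g).injective).mp h2)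
  have hCA : centralizer (OO q A : Set G) ≤ A :=
    (centralizer_le_normalizer _).trans (h.hA _ (OO_le q A) h1 (le_normalizer_OO q A))
  have hCB : centralizer (OO q B : Set G) ≤ B :=
    (centralizer_le_normalizer _).trans (h.hB _ (OO_le q B) hOB1 (le_normalizer_OO q B))
  have hle : LL q (OO q B) ≤ LL q (OO q A) := by
    rw [LL, closure_le]
    rintro x ⟨hx1, hx2⟩
    refine mem_LL ?_ hx2
    rw [mem_centralizer_iff]
    intro r hr
    have hR : IsPGroup q ((OO q A).subgroupOf B) :=
      (OO_isPGroup q A).comap_of_injective B.subtype B.subtype_injective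
    have hYR : (OO q A).subgroupOf B ≤ centralizer (Y q B : Set B) := by
      intro s hs
      rw [mem_centralizer_iff]
      intro y hy
      apply Subtype.ext
      exact mem_centralizer_iff.mp (hY (mem_subgroupOf.mp hs)) y ⟨y, hy, rfl⟩
    have hxB : (⟨x, hCB hx1⟩ : B) ∈ centralizer (pCore q B : Set B) := by
      rw [mem_centralizer_iff]
      intro y hy
      apply Subtype.ext
      exact mem_centralizer_iff.mp hx1 y ⟨y, hy, rfl⟩
    have := commute_of_centralizes q hR hYR hxB (by rwa [Subgroup.orderOf_mk])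
      (r := ⟨r, hAB hr⟩) (mem_subgroupOf.mpr hr)
    exact (congrArg Subtype.val this).symm
  have heq : LL q (OO q B) = LL q (OO q A) := by
    refine eq_of_le_of_card_ge hle ?_
    rw [hOB]
    exact card_LL_le q (OO q A) g
  have hYL : YY q B ≤ LL q (OO q B) := by
    refine YY_le_of_coprime q fun y hy hc => mem_LL ?_ hc
    exact le_centralizer_iff.mp (OO_le_centralizer_YY q B) hy
  refine h.false_of_normal (X := LL q (OO q B)) ((LL_le q _).trans hCB) ?_ ?_ ?_
  · intro h2
    rw [h2, le_bot_iff] at hYL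
    exact YY_ne_bot q (h.nFB q hq.out) hYL
  · rw [heq]
    exact (le_normalizer_OO q A).trans (normalizer_le_normalizer_LL q _)
  · exact (le_normalizer_OO q B).trans (normalizer_le_normalizer_LL q _)

/-- **Lemma A'**. -/
theorem Hyp.false_of_le {A B : Subgroup G} (h : Hyp A B) (q : ℕ) [hq : Fact q.Prime]
    (h1 : OO q A ≠ ⊥) (hAB : OO q A ≤ B) (hYA : YY q B ≤ A) : False := by
  refine h.false_of_centralizes q h1 hAB ?_
  rw [le_centralizer_iff]
  refine YY_le_of_coprime q fun y hy hyq => ?_
  rw [mem_centralizer_iff]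
  intro r hr
  exact commute_OO q hYA hr (hAB hr) hy hyq

end Cfsg.Agent.H429.TW
end

-- part: H429/TWMain
section
/-!
# The Thompson–Wielandt theorem for pairs of maximal subgroups: the theorem
-/

set_option autoImplicit false
set_option linter.unusedSectionVars false

namespace Cfsg.Agent.H429.TW

open Subgroup Cfsg
open scoped commutatorElement
open Cfsg.Agent.SignalizersComponents.Components
open Cfsg.Agent.TwoFusion.FStarControl

variable {G : Type*} [Group G] [Finite G]

/-- `F*(X)` in the ambient group. -/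
def FF (X : Subgroup G) : Subgroup G := (generalizedFittingSubgroup X).map X.subtype

theorem FF_def (X : Subgroup G) : FF X = (generalizedFittingSubgroup X).map X.subtype := rfl

theorem YY_le_FF (q : ℕ) (X : Subgroup G) : YY q X ≤ FF X := map_mono (Y_le_genFitting q)

theorem OO_le_FF (q : ℕ) [Fact q.Prime] (X : Subgroup G) : OO q X ≤ FF X :=
  map_mono ((Cfsg.Agent.Lib.Cores.pCore_le_fittingSubgroup q).trans fitting_le_genFitting)

theorem FF_le (X : Subgroup G) : FF X ≤ X := map_subtype_le _

theorem le_normalizer_FF (X : Subgroup G) : X ≤ normalizer (FF X : Set G) :=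
  le_normalizer_map_subtype (genFitting_normal X)

/-- A group which is not a `p`-group has a nontrivial element of order prime to `p`. -/
theorem exists_coprime_of_not_isPGroup {p : ℕ} [hp : Fact p.Prime] {T : Subgroup G}
    (h : ¬ IsPGroup p T) : ∃ t ∈ T, t ≠ 1 ∧ (orderOf t).Coprime p := by
  by_contra hcon
  push Not at hcon
  apply h
  intro t
  have hpos : orderOf (t : G) ≠ 0 := (orderOf_pos _).ne'
  refine ⟨(orderOf (t : G)).factorization p, ?_⟩
  apply Subtype.ext
  by_contra hne
  have hmem : ((t : G) ^ p ^ (orderOf (t : G)).factorization p) ∈ T := pow_mem t.2 _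
  have := hcon _ hmem (by simpa using hne)
  apply this
  rw [orderOf_pow_of_dvd (pow_ne_zero _ hp.out.ne_zero) (Nat.ordProj_dvd _ _)]
  exact (Nat.coprime_ordCompl hp.out hpos).symm

/-- `O_p(B)` normalizes the subgroup generated by the `p'`-elements of `T`, `T ⊴ C₂ ⊴ B`. -/
theorem OO_le_normalizer_closure (p : ℕ) {B T C₂ : Subgroup G}
    (hTC : T ≤ C₂) (hC2B : C₂ ≤ B) (hC2n : B ≤ normalizer (C₂ : Set G))
    (hTn : C₂ ≤ normalizer (T : Set G)) :
    OO p B ≤ normalizer (closure {t | t ∈ T ∧ (orderOf t).Coprime p} : Set G) := by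
  have key : ∀ r ∈ OO p B, ∀ t ∈ closure {t | t ∈ T ∧ (orderOf t).Coprime p},
      r * t * r⁻¹ ∈ closure {t | t ∈ T ∧ (orderOf t).Coprime p} := by
    intro r hr t ht
    have h1 : closure {t | t ∈ T ∧ (orderOf t).Coprime p} ≤
        (closure {t | t ∈ T ∧ (orderOf t).Coprime p}).comap (MulAut.conj r).toMonoidHom := by
      rw [closure_le]
      rintro s ⟨hs1, hs2⟩
      change r * s * r⁻¹ ∈ closure {t | t ∈ T ∧ (orderOf t).Coprime p}
      refine subset_closure ⟨?_, ?_⟩
      swap
      · rwa [orderOf_conj']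
      -- `r s r⁻¹ = v s`, `v ∈ O_p(B) ∩ C₂`
      have hrB := OO_le p B hr
      have hsB := hC2B (hTC hs1)
      set v : G := r * s * r⁻¹ * s⁻¹ with hv
      have hvO : v ∈ OO p B := by
        have e : v = r * (s * r⁻¹ * s⁻¹) := by rw [hv]; group
        rw [e]
        exact mul_mem hr ((mem_normalizer_iff.mp (le_normalizer_OO p B hsB) r⁻¹).mp (inv_mem hr))
      have hvC : v ∈ C₂ :=
        mul_mem ((mem_normalizer_iff.mp (hC2n hrB) s).mp (hTC hs1)) (inv_mem (hTC hs1))
      have hN : (T.subgroupOf C₂).Normal := by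
        rw [normal_subgroupOf_iff_le_normalizer hTC]; exact hTn
      obtain ⟨k, hk⟩ := OO_isPGroup p B ⟨v, hvO⟩
      have hk' : v ^ p ^ k = 1 := by simpa using congrArg Subtype.val hk
      have h2 : (r * s * r⁻¹) ^ p ^ k ∈ T := by
        have e : r * s * r⁻¹ = v * s := by rw [hv]; group
        have h3 : ((⟨v, hvC⟩ * ⟨s, hTC hs1⟩ : C₂) ^ p ^ k) ∈ T.subgroupOf C₂ := by
          rw [← QuotientGroup.eq_one_iff, QuotientGroup.mk_pow, QuotientGroup.mk_mul]
          have h4 : ((⟨s, hTC hs1⟩ : C₂) : C₂ ⧸ T.subgroupOf C₂) = 1 := by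
            rw [QuotientGroup.eq_one_iff]
            exact mem_subgroupOf.mpr hs1
          rw [h4, mul_one, ← QuotientGroup.mk_pow]
          have h5 : (⟨v, hvC⟩ : C₂) ^ p ^ k = 1 := Subtype.ext (by simpa using hk')
          rw [h5, QuotientGroup.mk_one]
        rw [e]
        simpa using mem_subgroupOf.mp h3
      have h6 : (orderOf (r * s * r⁻¹)).Coprime (p ^ k) := by
        rw [orderOf_conj']; exact Nat.Coprime.pow_right k hs2
      obtain ⟨m, hm⟩ := exists_pow_eq_self_of_coprime h6.symm
      rw [← hm]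
      exact pow_mem h2 m
    exact h1 ht
  intro r hr
  rw [mem_normalizer_iff]
  intro x
  refine ⟨key r hr x, fun h => ?_⟩
  have := key r⁻¹ (inv_mem hr) _ h
  have e : r⁻¹ * (r * x * r⁻¹) * r⁻¹⁻¹ = x := by group
  rwa [e] at this

/-- A subgroup normalized by `A`: so is the subgroup generated by its `p'`-elements. -/
theorem normalizer_le_normalizer_closure (p : ℕ) (T : Subgroup G) :
    normalizer (T : Set G) ≤
      normalizer (closure {t | t ∈ T ∧ (orderOf t).Coprime p} : Set G) := by
  have key : ∀ r ∈ normalizer (T : Set G), ∀ t ∈ closure {t | t ∈ T ∧ (orderOf t).Coprime p},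
      r * t * r⁻¹ ∈ closure {t | t ∈ T ∧ (orderOf t).Coprime p} := by
    intro r hr t ht
    have h1 : closure {t | t ∈ T ∧ (orderOf t).Coprime p} ≤
        (closure {t | t ∈ T ∧ (orderOf t).Coprime p}).comap (MulAut.conj r).toMonoidHom := by
      rw [closure_le]
      rintro s ⟨hs1, hs2⟩
      change r * s * r⁻¹ ∈ closure {t | t ∈ T ∧ (orderOf t).Coprime p}
      refine subset_closure ⟨(mem_normalizer_iff.mp hr s).mp hs1, ?_⟩
      rwa [orderOf_conj']
    exact h1 ht
  intro r hr
  rw [mem_normalizer_iff]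
  intro x
  refine ⟨key r hr x, fun h => ?_⟩
  have := key r⁻¹ (inv_mem hr) _ h
  have e : r⁻¹ * (r * x * r⁻¹) * r⁻¹⁻¹ = x := by group
  rwa [e] at this

/-- Data: `1 ≠ T ⊴ A`, `T ≤ C₂ ⊴ B`, `C₂ ≤ A`. -/
structure Core (A B T : Subgroup G) : Prop where
  ne : T ≠ ⊥
  n : A ≤ normalizer (T : Set G)
  ex : ∃ C₂ : Subgroup G, T ≤ C₂ ∧ C₂ ≤ A ∧ C₂ ≤ B ∧ B ≤ normalizer (C₂ : Set G)

theorem Core.le_left {A B T : Subgroup G} (c : Core A B T) : T ≤ A := by
  obtain ⟨C₂, h1, h2, h3, h4⟩ := c.ex
  exact h1.trans h2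

theorem Core.le_right {A B T : Subgroup G} (c : Core A B T) : T ≤ B := by
  obtain ⟨C₂, h1, h2, h3, h4⟩ := c.ex
  exact h1.trans h3

theorem Core.normalizer_le {A B T : Subgroup G} (c : Core A B T) (h : Hyp A B) :
    normalizer (T : Set G) ≤ A := h.hA T c.le_left c.ne c.n

theorem Core.isSubnormal {A B T : Subgroup G} (c : Core A B T) : (T.subgroupOf B).IsSubnormal := by
  obtain ⟨C₂, h1, h2, h3, h4⟩ := c.ex
  refine IsSubnormal.step _ (C₂.subgroupOf B) ?_ (Normal.isSubnormal ?_) ?_
  · intro x hx
    exact mem_subgroupOf.mpr (h1 (mem_subgroupOf.mp hx))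
  · rw [normal_subgroupOf_iff_le_normalizer h3]; exact h4
  · have hle : T.subgroupOf B ≤ C₂.subgroupOf B := fun x hx =>
      mem_subgroupOf.mpr (h1 (mem_subgroupOf.mp hx))
    rw [normal_subgroupOf_iff_le_normalizer hle]
    intro x hx
    rw [mem_normalizer_iff]
    intro y
    exact mem_normalizer_iff.mp (c.n (h2 (mem_subgroupOf.mp hx))) y

/-- If `T` is not of prime power order then `F*(B) ≤ A`. -/
theorem Core.FF_le {A B T : Subgroup G} (c : Core A B T) (h : Hyp A B)
    (hT : ¬ ∃ q : ℕ, q.Prime ∧ IsPGroup q T) : FF B ≤ A := by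
  have hsub := c.isSubnormal
  have hle := c.normalizer_le h
  have h1 : generalizedFittingSubgroup B ≤ A.subgroupOf B := by
    refine sup_le ?_ ?_
    · rw [layer_le_iff]
      intro K hK x hx
      rw [mem_subgroupOf]
      apply hle
      rw [mem_normalizer_iff]
      intro y
      rcases component_le_or_commutator_eq_bot hK hsub with h2 | h2
      · have hxT : (x : G) ∈ T := mem_subgroupOf.mp (h2 hx)
        constructor
        · intro hy; exact mul_mem (mul_mem hxT hy) (inv_mem hxT)
        · intro hy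
          have e : y = (x : G)⁻¹ * (x * y * (x : G)⁻¹) * x := by group
          rw [e]; exact mul_mem (mul_mem (inv_mem hxT) hy) hxT
      · have h3 : ∀ t : G, t ∈ T → (x : G) * t * (x : G)⁻¹ = t := by
          intro t ht
          have h4 : ⁅x, (⟨t, c.le_right ht⟩ : B)⁆ = 1 := by
            have := commutator_mem_commutator hx (mem_subgroupOf.mpr ht : (⟨t, c.le_right ht⟩ : B) ∈ _)
            rwa [h2, mem_bot] at this
          rw [commutatorElement_eq_one_iff_mul_comm] at h4
          have h5 : (x : G) * t = t * x := congrArg Subtype.val h4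
          rw [h5]; group
        constructor
        · intro hy; rw [h3 y hy]; exact hy
        · intro hy
          have h6 := h3 _ hy
          have e : (x : G) * y * (x : G)⁻¹ = y := by
            have := congrArg (fun z => (x : G)⁻¹ * z * x) h6
            simpa [mul_assoc] using this
          rwa [e] at hy
    · rw [Cfsg.Agent.Lib.Cores.fittingSubgroup_eq_iSup_pCore]
      refine iSup_le fun p => ?_
      have hp : Fact (p : ℕ).Prime := ⟨p.2⟩
      obtain ⟨C₂, k1, k2, k3, k4⟩ := c.ex
      have h2 := OO_le_normalizer_closure (p : ℕ) k1 k3 k4 (k2.trans c.n)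
      have h3 : ¬ IsPGroup (p : ℕ) T := fun h4 => hT ⟨p, p.2, h4⟩
      obtain ⟨t, ht, ht1, htc⟩ := exists_coprime_of_not_isPGroup h3
      have h4 : closure {t | t ∈ T ∧ (orderOf t).Coprime (p : ℕ)} ≤ A := by
        rw [closure_le]
        exact fun s hs => c.le_left hs.1
      have h5 : closure {t | t ∈ T ∧ (orderOf t).Coprime (p : ℕ)} ≠ ⊥ := by
        intro h6
        have h7 : t ∈ closure {t | t ∈ T ∧ (orderOf t).Coprime (p : ℕ)} := subset_closure ⟨ht, htc⟩
        rw [h6, mem_bot] at h7
        exact ht1 h7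
      have h6 := h.hA _ h4 h5 (c.n.trans (normalizer_le_normalizer_closure (p : ℕ) T))
      intro x hx
      exact mem_subgroupOf.mpr (h6 (h2 ⟨x, hx, rfl⟩))
  rintro _ ⟨x, hx, rfl⟩
  exact h1 hx

theorem Core.le_OO {A B T : Subgroup G} (c : Core A B T) {q : ℕ} (hT : IsPGroup q T) :
    T ≤ OO q A := TW.le_OO q hT c.le_left c.n

theorem Core.OO_ne_bot {A B T : Subgroup G} (c : Core A B T) {q : ℕ} (hT : IsPGroup q T) :
    OO q A ≠ ⊥ := by
  intro h
  have := c.le_OO hT
  rw [h, le_bot_iff] at this
  exact c.ne this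

/-- If `T` is a `q`-group then `O_{q'}(F*(B)) ≤ A`. -/
theorem Core.YY_le {A B T : Subgroup G} (c : Core A B T) (h : Hyp A B) {q : ℕ} [Fact q.Prime]
    (hT : IsPGroup q T) : YY q B ≤ A := by
  have h1 : T.subgroupOf B ≤ pCore q B :=
    Cfsg.Agent.PLocal.SubnormalCore.le_pCore_of_isSubnormal c.isSubnormal
      (hT.comap_of_injective B.subtype B.subtype_injective)
  have h2 : T ≤ OO q B := fun t ht =>
    ⟨⟨t, c.le_right ht⟩, h1 (mem_subgroupOf.mpr ht), rfl⟩
  have h3 : YY q B ≤ centralizer (T : Set G) := by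
    rw [le_centralizer_iff]
    exact h2.trans (OO_le_centralizer_YY q B)
  exact h3.trans ((centralizer_le_normalizer _).trans (c.normalizer_le h))

/-- A `q`-subgroup `T'` normal in `B`, with `O_{q'}(F*(B)) ≤ A`. -/
theorem Hyp.false_of_core {A B T' : Subgroup G} (h : Hyp A B) (c' : Core B A T') {q : ℕ}
    [hq : Fact q.Prime] (hT' : IsPGroup q T') (hYA : YY q B ≤ A) : False := by
  have h1 : YY q B ≤ centralizer (OO q A : Set G) :=
    OO_le_of_normal q hYA hT' c'.le_right c'.le_left c'.n
      ((centralizer_le_normalizer _).trans (c'.normalizer_le h.symm))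
  have h2 : OO q A ≤ centralizer (YY q B : Set G) := le_centralizer_iff.mp h1
  have h3 : OO q A ≤ B := h2.trans ((centralizer_le_normalizer _).trans
    (h.hB _ (YY_le q B) (YY_ne_bot q (h.nFB q hq.out)) (le_normalizer_YY q B)))
  have h4 : OO q A ≠ ⊥ := by
    obtain ⟨g, hg⟩ := h.conj
    intro h5
    apply c'.OO_ne_bot hT'
    rw [← hg, ← map_conj_OO, h5, Subgroup.map_bot]
  exact h.false_of_centralizes q h4 h3 h2

/-- **The Thompson–Wielandt theorem.** -/
theorem Hyp.false_of_cores {A B T T' : Subgroup G} (h : Hyp A B) (c : Core A B T)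
    (c' : Core B A T') : False := by
  by_cases hT' : ∃ q : ℕ, q.Prime ∧ IsPGroup q T'
  · obtain ⟨q, hq, hT'q⟩ := hT'
    have hqf : Fact q.Prime := ⟨hq⟩
    by_cases hT : ∃ p : ℕ, p.Prime ∧ IsPGroup p T
    · obtain ⟨p, hp, hTp⟩ := hT
      have hpf : Fact p.Prime := ⟨hp⟩
      have hYp : YY p B ≤ A := c.YY_le h hTp
      have hYq : YY q A ≤ B := c'.YY_le h.symm hT'q
      by_cases hpq : p = q
      · subst hpq
        exact h.false_of_core c' hT'q hYp
      · refine h.false_of_le p (c.OO_ne_bot hTp) ?_ hYp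
        refine le_trans (map_mono ?_) hYq
        refine le_trans (le_inf (Cfsg.Agent.Lib.Cores.pCore_le_fittingSubgroup p) ?_) le_sup_right
        refine Cfsg.Agent.Lib.Cores.le_pPrimeCore (Cfsg.Agent.Lib.Cores.pCore_normal p) ?_
        obtain ⟨n, hn⟩ := (Cfsg.Agent.Lib.Cores.pCore_isPGroup (G := A) p).exists_card_eq
        rw [hn]
        exact Nat.Coprime.pow_left n ((Nat.coprime_primes hp hq).mpr hpq)
    · exact h.false_of_core c' hT'q ((YY_le_FF q B).trans (c.FF_le h hT))
  · have hFA : FF A ≤ B := c'.FF_le h.symm hT'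
    by_cases hT : ∃ p : ℕ, p.Prime ∧ IsPGroup p T
    · obtain ⟨p, hp, hTp⟩ := hT
      have hpf : Fact p.Prime := ⟨hp⟩
      exact h.false_of_le p (c.OO_ne_bot hTp) ((OO_le_FF p A).trans hFA) (c.YY_le h hTp)
    · have hFB : FF B ≤ A := c.FF_le h hT
      by_cases hO : ∃ p : ℕ, p.Prime ∧ OO p A ≠ ⊥
      · obtain ⟨p, hp, hO⟩ := hO
        have hpf : Fact p.Prime := ⟨hp⟩
        exact h.false_of_le p hO ((OO_le_FF p A).trans hFA) ((YY_le_FF p B).trans hFB)
      · push Not at hO
        have hfit : ∀ {X : Subgroup G}, (∀ p : ℕ, p.Prime → OO p X = ⊥) →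
            generalizedFittingSubgroup X = layer X := by
          intro X hX
          have h1 : fittingSubgroup X = ⊥ := by
            rw [Cfsg.Agent.Lib.Cores.fittingSubgroup_eq_iSup_pCore, eq_bot_iff]
            refine iSup_le fun p => ?_
            rw [(map_eq_bot_iff_of_injective _ X.subtype_injective).mp (hX p p.2)]
          rw [Cfsg.Agent.Lib.GenFitting.genFitting_def, h1, sup_bot_eq]
        have hOB : ∀ p : ℕ, p.Prime → OO p B = ⊥ := by
          intro p hp
          obtain ⟨g, hg⟩ := h.conj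
          rw [← hg, ← map_conj_OO, hO p hp, Subgroup.map_bot]
        have hle : FF A ≤ FF B := by
          rw [FF_def A, hfit hO]
          have h1 : layer A ≤ (FF B).subgroupOf A := by
            rw [layer_le_iff]
            intro K hK
            have hKn : K ≤ normalizer ((FF B).subgroupOf A : Set A) := by
              intro x hx
              have h2 : (x : G) ∈ FF A := by
                rw [FF_def, hfit hO]
                exact ⟨x, component_le_layer hK hx, rfl⟩
              have h3 := le_normalizer_FF B (hFA h2)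
              rw [mem_normalizer_iff]
              intro y
              exact mem_normalizer_iff.mp h3 y
            rcases component_le_or_commutator_eq_bot_of_le_normalizer hK hKn with h2 | h2
            · exact h2
            · exfalso
              have hKB : K.map A.subtype ≤ B := by
                refine le_trans (map_mono (component_le_layer hK)) ?_
                rw [← hfit hO]; exact hFA
              have h3 : (K.map A.subtype).subgroupOf B ≤
                  centralizer (generalizedFittingSubgroup B : Set B) := by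
                intro x hx
                obtain ⟨k, hk, hkx⟩ := mem_subgroupOf.mp hx
                rw [mem_centralizer_iff]
                intro y hy
                have hyF : (y : G) ∈ FF B := ⟨y, hy, rfl⟩
                have h4 : ⁅k, (⟨y, hFB hyF⟩ : A)⁆ = 1 := by
                  have := commutator_mem_commutator hk
                    (mem_subgroupOf.mpr hyF : (⟨y, hFB hyF⟩ : A) ∈ _)
                  rwa [h2, mem_bot] at this
                rw [commutatorElement_eq_one_iff_mul_comm] at h4
                have h5 : (k : G) * y = y * k := congrArg Subtype.val h4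
                apply Subtype.ext
                have h6 : (k : G) = x := hkx
                rw [h6] at h5
                exact h5.symm
              have h4 := h3.trans centralizer_genFitting_le_fitting
              have h5 : fittingSubgroup B = ⊥ := by
                rw [Cfsg.Agent.Lib.Cores.fittingSubgroup_eq_iSup_pCore, eq_bot_iff]
                refine iSup_le fun p => ?_
                rw [(map_eq_bot_iff_of_injective _ B.subtype_injective).mp (hOB p p.2)]
              rw [h5, le_bot_iff] at h4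
              apply component_ne_bot hK
              rw [eq_bot_iff]
              intro k hk
              have h6 : (⟨(k : G), hKB ⟨k, hk, rfl⟩⟩ : B) ∈ (K.map A.subtype).subgroupOf B :=
                mem_subgroupOf.mpr ⟨k, hk, rfl⟩
              rw [h4, mem_bot] at h6
              rw [mem_bot]
              apply Subtype.ext
              exact congrArg (fun z : B => (z : G)) h6
          rintro _ ⟨x, hx, rfl⟩
          exact h1 hx
        have hcard : Nat.card (FF A) = Nat.card (FF B) := by
          obtain ⟨g, hg⟩ := h.conj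
          let e := A.equivMapOfInjective (MulAut.conj g).toMonoidHom (MulAut.conj g).injective
          have h2 := Cfsg.Agent.Lib.GenFitting.map_genFitting e
          rw [FF_def, FF_def, ← hg, card_map_of_injective A.subtype_injective,
            card_map_of_injective (subtype_injective _), ← h2,
            card_map_of_injective (f := e.toMonoidHom) e.injective]
        have heq : FF A = FF B := eq_of_le_of_card_ge hle hcard.ge
        refine h.false_of_normal (X := FF B) (TW.FF_le B) ?_ ?_ (le_normalizer_FF B)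
        · intro h1
          have h2 := YY_le_FF 2 B
          rw [h1, le_bot_iff] at h2
          have : Fact (Nat.Prime 2) := ⟨Nat.prime_two⟩
          exact YY_ne_bot 2 (h.nFB 2 Nat.prime_two) h2
        · rw [← heq]; exact le_normalizer_FF A

end Cfsg.Agent.H429.TW
end

-- part: H429/Suborbit
section
/-!
# Primitive groups: suborbits and the Thompson–Wielandt theorem
-/

set_option autoImplicit false
set_option linter.unusedSectionVars false

namespace Cfsg.Agent.H429.Suborbit

open Subgroup Cfsg MulAction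
open Cfsg.Agent.H429.TW

variable {G Ω : Type*} [Group G] [MulAction G Ω]

/-- The kernel of `G_a` on the orbit of `b`. -/
def K (a b : Ω) : Subgroup G := stabilizer G a ⊓ fixingSubgroup G (orbit (stabilizer G a) b)

theorem mem_K {a b : Ω} {x : G} :
    x ∈ K a b ↔ x ∈ stabilizer G a ∧ ∀ c ∈ orbit (stabilizer G a) b, x • c = c := by
  rw [K, mem_inf, mem_fixingSubgroup_iff]

/-- The kernel of `G_a` on the union of the sets `orbit G_c a`, `c` in the orbit of `b` under `G_a`. -/
def T (a b : Ω) : Subgroup G := ⨅ c ∈ orbit (stabilizer G a) b, K c a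

theorem mem_T {a b : Ω} {x : G} :
    x ∈ T a b ↔ ∀ c ∈ orbit (stabilizer G a) b, x ∈ K c a := by
  simp only [T, mem_iInf]

theorem K_le_left (a b : Ω) : (K a b : Subgroup G) ≤ stabilizer G a := inf_le_left

theorem K_le_right (a b : Ω) : (K a b : Subgroup G) ≤ stabilizer G b := by
  intro x hx
  exact (mem_K.mp hx).2 b (mem_orbit_self b)

theorem T_le (a b : Ω) : (T a b : Subgroup G) ≤ K b a := fun _ hx =>
  mem_T.mp hx b (mem_orbit_self b)

theorem conj_mem_stabilizer {a : Ω} {x : G} (h : G) (hx : x ∈ stabilizer G a) :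
    h * x * h⁻¹ ∈ stabilizer G (h • a) := by
  rw [mem_stabilizer_iff] at *
  rw [mul_smul, mul_smul, inv_smul_smul, hx]

theorem smul_mem_orbit {a b c : Ω} (h : G) (hc : c ∈ orbit (stabilizer G a) b) :
    h • c ∈ orbit (stabilizer G (h • a)) (h • b) := by
  obtain ⟨⟨k, hk⟩, rfl⟩ := hc
  refine ⟨⟨h * k * h⁻¹, conj_mem_stabilizer h hk⟩, ?_⟩
  change (h * k * h⁻¹) • h • b = h • k • b
  rw [mul_smul, mul_smul, inv_smul_smul]

theorem conj_mem_K {a b : Ω} {x : G} (h : G) (hx : x ∈ K a b) :
    h * x * h⁻¹ ∈ K (h • a) (h • b) := by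
  rw [mem_K] at *
  refine ⟨conj_mem_stabilizer h hx.1, ?_⟩
  intro c hc
  have h1 := smul_mem_orbit h⁻¹ hc
  rw [inv_smul_smul, inv_smul_smul] at h1
  rw [mul_smul, mul_smul, hx.2 _ h1, smul_inv_smul]

theorem conj_mem_T {a b : Ω} {x : G} (h : G) (hx : x ∈ T a b) :
    h * x * h⁻¹ ∈ T (h • a) (h • b) := by
  rw [mem_T] at *
  intro c hc
  have h1 := smul_mem_orbit h⁻¹ hc
  rw [inv_smul_smul, inv_smul_smul] at h1
  have := conj_mem_K h (hx _ h1)
  rwa [smul_inv_smul] at this

theorem K_eq_of_mem {a b c : Ω} (hc : c ∈ orbit (stabilizer G a) b) :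
    (K a c : Subgroup G) = K a b := by
  rw [K, K, orbit_eq_iff.mpr hc]

theorem T_eq_of_mem {a b c : Ω} (hc : c ∈ orbit (stabilizer G a) b) :
    (T a c : Subgroup G) = T a b := by
  rw [T, T, orbit_eq_iff.mpr hc]

theorem le_normalizer_of_conj {A X : Subgroup G} (h : ∀ g ∈ A, ∀ x ∈ X, g * x * g⁻¹ ∈ X) :
    A ≤ normalizer (X : Set G) := by
  intro g hg
  rw [mem_normalizer_iff]
  intro x
  refine ⟨h g hg x, fun hx => ?_⟩
  have := h g⁻¹ (inv_mem hg) _ hx
  have e : g⁻¹ * (g * x * g⁻¹) * g⁻¹⁻¹ = x := by group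
  rwa [e] at this

theorem le_normalizer_K (a b : Ω) : stabilizer G a ≤ normalizer ((K a b : Subgroup G) : Set G) := by
  refine le_normalizer_of_conj fun g hg x hx => ?_
  have h1 := conj_mem_K g hx
  rw [mem_stabilizer_iff.mp hg] at h1
  rwa [K_eq_of_mem (show g • b ∈ orbit (stabilizer G a) b from ⟨⟨g, hg⟩, rfl⟩)] at h1

theorem le_normalizer_T (a b : Ω) : stabilizer G a ≤ normalizer ((T a b : Subgroup G) : Set G) := by
  refine le_normalizer_of_conj fun g hg x hx => ?_
  have h1 := conj_mem_T g hx
  rw [mem_stabilizer_iff.mp hg] at h1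
  rwa [T_eq_of_mem (show g • b ∈ orbit (stabilizer G a) b from ⟨⟨g, hg⟩, rfl⟩)] at h1

theorem core {a b : Ω} (h : (T a b : Subgroup G) ≠ ⊥) :
    Core (stabilizer G a) (stabilizer G b) (T a b) :=
  ⟨h, le_normalizer_T a b, K b a, T_le a b, K_le_right b a, K_le_left b a, le_normalizer_K b a⟩

/-! ### Counting -/

section count

variable [Finite G] [Finite Ω]

theorem card_stabilizer_eq [IsPretransitive G Ω] (a b : Ω) :
    Nat.card (stabilizer G a) = Nat.card (stabilizer G b) := by
  obtain ⟨g, rfl⟩ := exists_smul_eq G a b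
  rw [stabilizer_smul_eq_stabilizer_map_conj, card_map_of_injective (MulAut.conj g).injective]

theorem card_orbit_mul (a b : Ω) :
    Nat.card (orbit (stabilizer G a) b) * Nat.card (stabilizer G a ⊓ stabilizer G b : Subgroup G) =
      Nat.card (stabilizer G a) := by
  have h1 : stabilizer (stabilizer G a) b = (stabilizer G b).subgroupOf (stabilizer G a) := by
    ext x
    rw [mem_subgroupOf, mem_stabilizer_iff, mem_stabilizer_iff]
    rfl
  have h2 : Nat.card (stabilizer (stabilizer G a) b) =
      Nat.card (stabilizer G a ⊓ stabilizer G b : Subgroup G) := by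
    rw [h1, inf_comm, ← subgroupOf_map_subtype, card_map_of_injective (subtype_injective _)]
  rw [← h2]
  have h3 := Nat.card_congr (orbitEquivQuotientStabilizer (stabilizer G a) b)
  rw [h3, mul_comm]
  have h4 := (stabilizer (stabilizer G a) b).card_mul_index
  rwa [Subgroup.index] at h4

theorem card_orbit_eq [IsPretransitive G Ω] (a b : Ω) :
    Nat.card (orbit (stabilizer G b) a) = Nat.card (orbit (stabilizer G a) b) := by
  have h1 := card_orbit_mul (G := G) a b
  have h2 := card_orbit_mul (G := G) b a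
  rw [card_stabilizer_eq (G := G) b a, inf_comm] at h2
  exact Nat.eq_of_mul_eq_mul_right Nat.card_pos (h2.trans h1.symm)

theorem card_orbit_eq_of_mem [IsPretransitive G Ω] {a b c : Ω}
    (hc : c ∈ orbit (stabilizer G a) b) :
    Nat.card (orbit (stabilizer G c) a) = Nat.card (orbit (stabilizer G a) b) := by
  rw [card_orbit_eq, orbit_eq_iff.mpr hc]

/-- The set `orbit G_c a \ {a}` as a set with an action of the kernel of `G_a` on the orbit of `b`. -/
def S (a b : Ω) (c : orbit (stabilizer G a) b) : SubMulAction (K a b : Subgroup G) Ω where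
  carrier := {e | e ∈ orbit (stabilizer G (c : Ω)) a ∧ e ≠ a}
  smul_mem' := by
    rintro ⟨x, hx⟩ e ⟨he, hne⟩
    have hxc : x • (c : Ω) = c := (mem_K.mp hx).2 c c.2
    have hxa : x • a = a := (mem_K.mp hx).1
    refine ⟨?_, ?_⟩
    · have := smul_mem_orbit x he
      rwa [hxc, hxa] at this
    · intro h
      apply hne
      change x • e = a at h
      rw [← hxa] at h
      exact smul_left_cancel x h

theorem mem_S {a b : Ω} {c : orbit (stabilizer G a) b} {e : Ω} :
    e ∈ S a b c ↔ e ∈ orbit (stabilizer G (c : Ω)) a ∧ e ≠ a := Iff.rfl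

theorem card_S [IsPretransitive G Ω] (a b : Ω) (c : orbit (stabilizer G a) b) :
    Nat.card (S a b c) = Nat.card (orbit (stabilizer G a) b) - 1 := by
  have h1 := card_orbit_eq_of_mem (G := G) c.2
  rw [← h1]
  have h2 : ((S a b c : SubMulAction (K a b : Subgroup G) Ω) : Set Ω) =
      orbit (stabilizer G (c : Ω)) a \ {a} := by
    ext e
    exact mem_S
  have h3 : Nat.card (S a b c) =
      (((S a b c : SubMulAction (K a b : Subgroup G) Ω) : Set Ω)).ncard := rfl
  rw [h3, h2, Set.ncard_sdiff_singleton_of_mem (mem_orbit_self a)]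
  rfl

/-- The homomorphism of the kernel to the product of symmetric groups. -/
noncomputable def psi (a b : Ω) :
    (K a b : Subgroup G) →* (∀ c : orbit (stabilizer G a) b, Equiv.Perm (S a b c)) :=
  MonoidHom.pi fun c => toPermHom (K a b : Subgroup G) (S a b c)

theorem psi_injective {a b : Ω} (h : (T a b : Subgroup G) = ⊥) :
    Function.Injective (psi (G := G) a b) := by
  rw [injective_iff_map_eq_one]
  rintro ⟨x, hx⟩ h1
  have h2 : x ∈ (T a b : Subgroup G) := by
    rw [mem_T]
    intro c hc
    rw [mem_K]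
    refine ⟨(mem_K.mp hx).2 c hc, ?_⟩
    intro e he
    by_cases hea : e = a
    · rw [hea]; exact (mem_K.mp hx).1
    · have h3 := congrFun h1 ⟨c, hc⟩
      have h4 := congrArg (fun f : Equiv.Perm (S a b ⟨c, hc⟩) => ((f ⟨e, he, hea⟩ : S a b ⟨c, hc⟩) : Ω)) h3
      exact h4
  rw [h, mem_bot] at h2
  exact Subtype.ext h2

theorem card_K_dvd [IsPretransitive G Ω] {a b : Ω} (h : (T a b : Subgroup G) = ⊥) :
    Nat.card (K a b : Subgroup G) ∣
      (Nat.factorial (Nat.card (orbit (stabilizer G a) b) - 1)) ^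
        (Nat.card (orbit (stabilizer G a) b)) := by
  have h1 := card_dvd_of_injective (psi (G := G) a b) (psi_injective h)
  refine h1.trans (dvd_of_eq ?_)
  cases nonempty_fintype (orbit (stabilizer G a) b)
  rw [Nat.card_pi]
  have h2 : ∀ c : orbit (stabilizer G a) b, Nat.card (Equiv.Perm (S a b c)) =
      Nat.factorial (Nat.card (orbit (stabilizer G a) b) - 1) := by
    intro c
    rw [Nat.card_perm, card_S]
  rw [Finset.prod_congr rfl fun c _ => h2 c, Finset.prod_const, Finset.card_univ,
    Nat.card_eq_fintype_card]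

theorem ker_toPermHom (a b : Ω) :
    (toPermHom (stabilizer G a) (orbit (stabilizer G a) b)).ker.map (stabilizer G a).subtype =
      K a b := by
  ext x
  constructor
  · rintro ⟨y, hy, rfl⟩
    rw [mem_K]
    refine ⟨y.2, fun c hc => ?_⟩
    have h1 := congrArg (fun f : Equiv.Perm (orbit (stabilizer G a) b) =>
      ((f ⟨c, hc⟩ : orbit (stabilizer G a) b) : Ω)) hy
    exact h1
  · intro hx
    refine ⟨⟨x, (mem_K.mp hx).1⟩, ?_, rfl⟩
    change toPermHom (stabilizer G a) (orbit (stabilizer G a) b) _ = 1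
    ext c
    exact (mem_K.mp hx).2 c c.2

theorem card_dvd_factorial_mul (a b : Ω) :
    Nat.card (stabilizer G a) ∣
      Nat.factorial (Nat.card (orbit (stabilizer G a) b)) * Nat.card (K a b : Subgroup G) := by
  set φ := toPermHom (stabilizer G a) (orbit (stabilizer G a) b) with hφ
  have h1 : Nat.card φ.ker * Nat.card φ.range = Nat.card (stabilizer G a) := by
    have := φ.ker.card_mul_index
    rwa [index_ker] at this
  have h2 : Nat.card φ.ker = Nat.card (K a b : Subgroup G) := by
    rw [← ker_toPermHom, card_map_of_injective (subtype_injective _)]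
  have h3 : Nat.card φ.range ∣ Nat.factorial (Nat.card (orbit (stabilizer G a) b)) := by
    rw [← Nat.card_perm]
    exact card_subgroup_dvd_card _
  rw [← h1, h2, mul_comm]
  exact Nat.mul_dvd_mul_right h3 _

theorem card_dvd_of_T_eq_bot [IsPretransitive G Ω] {a b : Ω} (h : (T a b : Subgroup G) = ⊥) :
    Nat.card (stabilizer G a) ∣ Nat.factorial (Nat.card (orbit (stabilizer G a) b)) *
      (Nat.factorial (Nat.card (orbit (stabilizer G a) b) - 1)) ^
        (Nat.card (orbit (stabilizer G a) b)) :=
  (card_dvd_factorial_mul a b).trans (Nat.mul_dvd_mul_left _ (card_K_dvd h))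

end count

/-! ### Primitive groups -/

section prim

variable [Finite G] [FaithfulSMul G Ω] [Finite Ω]

theorem ne_of_two_le {a b : Ω} (h2 : 2 ≤ Nat.card (orbit (stabilizer G a) b)) : a ≠ b := by
  rintro rfl
  have h1 : orbit (stabilizer G a) a = {a} := by
    ext c
    constructor
    · rintro ⟨g, rfl⟩; exact g.2
    · rintro rfl; exact mem_orbit_self _
  rw [h1] at h2
  simp at h2

theorem stabilizer_ne_of_two_le {a b : Ω} (h2 : 2 ≤ Nat.card (orbit (stabilizer G a) b)) :
    stabilizer G a ≠ stabilizer G b := by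
  intro h
  have h1 : orbit (stabilizer G a) b = {b} := by
    ext c
    constructor
    · rintro ⟨⟨g, hg⟩, rfl⟩
      rw [h] at hg
      exact hg
    · rintro rfl; exact mem_orbit_self _
  rw [h1] at h2
  simp at h2

/-- The normalizer of a nontrivial normal subgroup of a point stabiliser. -/
theorem normalizer_le (hprim : IsPreprimitive G Ω) [Nontrivial Ω] (a : Ω) (X : Subgroup G)
    (hX : X ≤ stabilizer G a) (h1 : X ≠ ⊥) (hn : stabilizer G a ≤ normalizer (X : Set G)) :
    normalizer (X : Set G) ≤ stabilizer G a := by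
  have hmax : IsCoatom (stabilizer G a) :=
    IsPreprimitive.isCoatom_stabilizer_of_isPreprimitive G a
  rcases hmax.le_iff.mp hn with h | h
  · exfalso
    apply h1
    have hXn : X.Normal := normalizer_eq_top_iff.mp h
    rw [eq_bot_iff]
    intro x hx
    rw [mem_bot]
    apply FaithfulSMul.eq_of_smul_eq_smul (α := Ω)
    intro c
    obtain ⟨g, rfl⟩ := exists_smul_eq G a c
    have h2 : (g⁻¹ * x * g) • a = a := hX (by simpa using hXn.conj_mem x hx g⁻¹)
    rw [one_smul]
    have h3 : x • g • a = g • (g⁻¹ * x * g) • a := by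
      rw [smul_smul, smul_smul]; congr 1; group
    rw [h3, h2]
  · exact h.le

theorem hyp (hprim : IsPreprimitive G Ω) {a b : Ω}
    (h2 : 2 ≤ Nat.card (orbit (stabilizer G a) b))
    (hnF : ∀ q : ℕ, q.Prime → generalizedFittingSubgroup (stabilizer G a) ≠
      pCore q (stabilizer G a)) : Hyp (stabilizer G a) (stabilizer G b) := by
  have hnt : Nontrivial Ω := ⟨a, b, ne_of_two_le h2⟩
  refine ⟨normalizer_le hprim a, normalizer_le hprim b, ?_, stabilizer_ne_of_two_le h2, hnF⟩
  obtain ⟨g, hg⟩ := exists_smul_eq G a b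
  exact ⟨g, by rw [← hg, stabilizer_smul_eq_stabilizer_map_conj]⟩

/-- **Thompson–Wielandt**: if `F*(G_a)` is not of prime power order, one of `T a b`, `T b a` is trivial. -/
theorem T_eq_bot_or (hprim : IsPreprimitive G Ω) {a b : Ω}
    (h2 : 2 ≤ Nat.card (orbit (stabilizer G a) b))
    (hnF : ∀ q : ℕ, q.Prime → generalizedFittingSubgroup (stabilizer G a) ≠
      pCore q (stabilizer G a)) : (T a b : Subgroup G) = ⊥ ∨ (T b a : Subgroup G) = ⊥ := by
  by_contra hcon
  push Not at hcon
  exact (hyp hprim h2 hnF).false_of_cores (core hcon.1) (core hcon.2)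

/-- The order of a point stabiliser. -/
theorem card_dvd (hprim : IsPreprimitive G Ω) {a b : Ω}
    (h2 : 2 ≤ Nat.card (orbit (stabilizer G a) b))
    (hnF : ∀ q : ℕ, q.Prime → generalizedFittingSubgroup (stabilizer G a) ≠
      pCore q (stabilizer G a)) :
    Nat.card (stabilizer G a) ∣ Nat.factorial (Nat.card (orbit (stabilizer G a) b)) *
      (Nat.factorial (Nat.card (orbit (stabilizer G a) b) - 1)) ^
        (Nat.card (orbit (stabilizer G a) b)) := by
  rcases T_eq_bot_or hprim h2 hnF with h | h
  · exact card_dvd_of_T_eq_bot h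
  · have := card_dvd_of_T_eq_bot h
    rwa [card_orbit_eq, card_stabilizer_eq b a] at this

end prim

end Cfsg.Agent.H429.Suborbit
end
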